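import Mathlib

/-!
# Permutation modules of prime degree inside cyclotomic fields

The augmentation quotient of the permutation module of degree `p` over the rationals is
identified with the cyclotomic field of conductor `p`; translations become multiplications.
-/

set_option autoImplicit false

namespace CfsgLib.PrimeIndexOut

open Polynomial

variable (p : ℕ) [hp : Fact p.Prime]

instance neZero_cast_rat : NeZero ((p : ℕ) : ℚ) :=
  ⟨Nat.cast_ne_zero.2 hp.out.ne_zero⟩

/-- The cyclotomic field of conductor `p`. -/
abbrev Cyc := CyclotomicField p ℚ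

instance isCyclotomicExtension_cyc : IsCyclotomicExtension {p} ℚ (Cyc p) :=
  CyclotomicField.isCyclotomicExtension p ℚ

/-- The standard character of `ZMod p` with values in the cyclotomic field. -/
noncomputable def chi (i : ZMod p) : Cyc p := IsCyclotomicExtension.zeta p ℚ (Cyc p) ^ i.val

variable {p}

theorem zeta_prim : IsPrimitiveRoot (IsCyclotomicExtension.zeta p ℚ (Cyc p)) p :=
  IsCyclotomicExtension.zeta_spec p ℚ (Cyc p)

theorem chi_natCast (n : ℕ) :
    chi p (n : ZMod p) = IsCyclotomicExtension.zeta p ℚ (Cyc p) ^ n := by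
  rw [chi, ZMod.val_natCast]
  exact (pow_eq_pow_mod n zeta_prim.pow_eq_one).symm

theorem chi_add (i j : ZMod p) : chi p (i + j) = chi p i * chi p j := by
  conv_lhs => rw [← ZMod.natCast_zmod_val i, ← ZMod.natCast_zmod_val j, ← Nat.cast_add]
  rw [chi_natCast, pow_add]
  rfl

theorem chi_injective : Function.Injective (chi p) := fun i j h =>
  ZMod.val_injective p (zeta_prim.pow_inj i.val_lt j.val_lt h)

theorem sum_zmod_eq_range {M : Type*} [AddCommMonoid M] (f : ZMod p → M) :
    ∑ i, f i = ∑ n ∈ Finset.range p, f (n : ZMod p) := by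
  refine Finset.sum_nbij' (fun i => i.val) (fun n => (n : ZMod p)) ?_ ?_ ?_ ?_ ?_
  · exact fun i _ => Finset.mem_range.2 i.val_lt
  · exact fun n _ => Finset.mem_univ _
  · exact fun i _ => ZMod.natCast_zmod_val i
  · exact fun n hn => ZMod.val_natCast_of_lt (Finset.mem_range.1 hn)
  · intro i _; rw [ZMod.natCast_zmod_val]

theorem sum_chi : ∑ i, chi p i = 0 := by
  rw [sum_zmod_eq_range]
  simp only [chi_natCast]
  exact zeta_prim.geom_sum_eq_zero hp.out.one_lt

theorem sum_chi_perm (σ : Equiv.Perm (ZMod p)) : ∑ i, chi p (σ i) = 0 :=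
  (Equiv.sum_comp σ (chi p)).trans sum_chi

theorem linearIndependent_chi :
    LinearIndependent ℚ fun n : Fin (p - 1) => chi p ((n : ℕ) : ZMod p) := by
  have h : (minpoly ℚ (IsCyclotomicExtension.zeta p ℚ (Cyc p))).natDegree = p - 1 := by
    rw [← cyclotomic_eq_minpoly_rat zeta_prim hp.out.pos, natDegree_cyclotomic,
      Nat.totient_prime hp.out]
  simp only [chi_natCast]
  exact (linearIndependent_pow (IsCyclotomicExtension.zeta p ℚ (Cyc p))).comp
    (Fin.cast h.symm) (Fin.cast_injective _)

/-- The only linear relations among the values of `chi` are the constant ones. -/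
theorem eq_of_sum_smul_chi (f : ZMod p → ℚ) (h : ∑ i, f i • chi p i = 0) (i j : ZMod p) :
    f i = f j := by
  obtain ⟨q, hq⟩ : ∃ q, p = q + 1 := ⟨p - 1, by have := hp.out.pos; omega⟩
  have h2 : ∑ i, (f i - f (q : ZMod p)) • chi p i = 0 := by
    refine ((Finset.sum_congr rfl fun i _ => sub_smul (f i) (f (q : ZMod p)) (chi p i)).trans
      (Finset.sum_sub_distrib _ _)).trans ?_
    erw [h, ← Finset.smul_sum, sum_chi, smul_zero, sub_zero]
  rw [sum_zmod_eq_range] at h2
  have h5 : Finset.range p = Finset.range (q + 1) := congrArg Finset.range hq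
  rw [h5] at h2
  rw [Finset.sum_range_succ, sub_self] at h2
  erw [zero_smul ℚ, add_zero] at h2
  have h3 := Fintype.linearIndependent_iff.1 linearIndependent_chi
    (fun n : Fin (p - 1) => f ((n : ℕ) : ZMod p) - f (q : ZMod p)) (by
      refine (Fin.sum_univ_eq_sum_range (fun n => (f (n : ZMod p) - f (q : ZMod p)) • chi p (n : ZMod p))
        (p - 1)).trans ?_
      have : p - 1 = q := by omega
      rw [this]
      exact h2)
  have h4 : ∀ a : ZMod p, f a = f (q : ZMod p) := by
    intro a
    rcases Nat.lt_or_ge a.val q with hlt | hge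
    · have := h3 ⟨a.val, by omega⟩
      simp only [ZMod.natCast_zmod_val] at this
      exact sub_eq_zero.1 this
    · have : a.val = q := le_antisymm (by have := a.val_lt; omega) hge
      rw [← this, ZMod.natCast_zmod_val]
  rw [h4 i, h4 j]

theorem span_chi : Submodule.span ℚ (Set.range (chi p)) = ⊤ := by
  haveI : Nonempty (Fin (p - 1)) := ⟨⟨0, by have := hp.out.two_le; omega⟩⟩
  have h := (linearIndependent_chi (p := p)).span_eq_top_of_card_eq_finrank (by
    rw [Fintype.card_fin, IsCyclotomicExtension.finrank (Cyc p)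
      (cyclotomic.irreducible_rat hp.out.pos), Nat.totient_prime hp.out])
  exact eq_top_iff.2 (h ▸ Submodule.span_mono (Set.range_subset_iff.2 fun n => ⟨_, rfl⟩))

/-- Every permutation of `ZMod p` induces a linear map of the cyclotomic field. -/
theorem exists_perm_map (σ : Equiv.Perm (ZMod p)) :
    ∃ r : Cyc p →ₗ[ℚ] Cyc p, ∀ i, r (chi p i) = chi p (σ i) := by
  classical
  obtain ⟨s, hs⟩ := (Fintype.linearCombination ℚ (chi p)).exists_rightInverse_of_surjective
    (by rw [Fintype.range_linearCombination, span_chi])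
  refine ⟨(Fintype.linearCombination ℚ (fun i => chi p (σ i))).comp s, fun i => ?_⟩
  have h1 : Fintype.linearCombination ℚ (chi p) (s (chi p i)) = chi p i := LinearMap.congr_fun hs _
  have h2 : Fintype.linearCombination ℚ (chi p) (s (chi p i) - Pi.single i (1 : ℚ)) = 0 := by
    rw [map_sub, h1, Fintype.linearCombination_apply_single, one_smul, sub_self]
  rw [Fintype.linearCombination_apply] at h2
  have h3 := eq_of_sum_smul_chi _ h2
  have h4 : Fintype.linearCombination ℚ (fun i => chi p (σ i))
      (s (chi p i) - Pi.single i (1 : ℚ)) = 0 := by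
    rw [Fintype.linearCombination_apply]
    simp only [fun a => h3 a i]
    rw [← Finset.smul_sum, sum_chi_perm, smul_zero]
  rw [map_sub, Fintype.linearCombination_apply_single, one_smul, sub_eq_zero] at h4
  exact h4

/-- Linear maps of the cyclotomic field agreeing on all `chi` are equal. -/
theorem linearMap_ext {r t : Cyc p →ₗ[ℚ] Cyc p} (h : ∀ i, r (chi p i) = t (chi p i)) : r = t :=
  LinearMap.ext_on_range span_chi h

end CfsgLib.PrimeIndexOut
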