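import Cfsg.Agent.Lib.Solv.CyclotomicPermMaps

/-!
# Automorphisms of a group of prime degree fixing a regular cyclic subgroup

If a group acts faithfully on `ZMod p` with a translation `u`, and every automorphic image of a
point stabilizer is intransitive, then the automorphisms fixing `u` commute with each other.
-/

set_option autoImplicit false

namespace CfsgLib.PrimeIndexOut

variable {p : ℕ} [hp : Fact p.Prime] {G : Type*} [Group G]
  {π : G →* Equiv.Perm (ZMod p)} {u : G} {H : Subgroup G}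

theorem translate_pow (hu : ∀ i, π u i = i + 1) (n : ℕ) (i : ZMod p) : π (u ^ n) i = i + n := by
  induction n with
  | zero => simp
  | succ m ih =>
    rw [pow_succ', map_mul, Equiv.Perm.mul_apply, ih, hu, Nat.cast_succ, add_assoc]

theorem exists_intertwining_scalar (hu : ∀ i, π u i = i + 1) (hH : ∀ g, g ∈ H ↔ π g 0 = 0)
    (hint : ∀ α : MulAut G, ∃ i : ZMod p, ∀ h ∈ H, π (α h) 0 ≠ i)
    (r : G → (Cyc p →ₗ[ℚ] Cyc p)) (hr : ∀ g i, r g (chi p i) = chi p (π g i))
    (α : MulAut G) (hα : α u = u) :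
    ∃ d : Cyc p, d ≠ 0 ∧ ∀ g y, d * r g y = r (α g) (d * y) := by
  classical
  let D : Finset (ZMod p) := Finset.univ.filter fun i => ∃ h ∈ H, π (α h) 0 = i
  have hD : ∀ i, i ∈ D ↔ ∃ h ∈ H, π (α h) 0 = i := fun i => by simp [D]
  have hperm : ∀ h ∈ H, ∀ j, j ∈ D ↔ π (α h) j ∈ D := by
    intro h hh j
    rw [hD, hD]
    constructor
    · rintro ⟨k, hk, rfl⟩
      exact ⟨h * k, H.mul_mem hh hk, by simp [map_mul]⟩
    · rintro ⟨k, hk, hkj⟩
      refine ⟨h⁻¹ * k, H.mul_mem (H.inv_mem hh) hk, ?_⟩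
      rw [map_mul, map_mul, Equiv.Perm.mul_apply, hkj]
      simp
  refine ⟨∑ j ∈ D, chi p j, fun h0 => ?_, fun g => ?_⟩
  · obtain ⟨i, hi⟩ := hint α
    have hiD : i ∉ D := fun h => by
      obtain ⟨k, hk, hki⟩ := (hD i).1 h
      exact hi k hk hki
    have h0D : (0 : ZMod p) ∈ D := (hD 0).2 ⟨1, H.one_mem, by simp⟩
    have h1 := eq_of_sum_smul_chi (fun j => if j ∈ D then (1 : ℚ) else 0) (by
      refine Eq.trans ?_ h0
      refine (Finset.sum_congr rfl fun j _ => ?_).trans (Finset.sum_ite_mem_eq D (chi p))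
      by_cases hj : j ∈ D
      · simp only [hj, if_true]
        exact one_smul ℚ _
      · simp only [hj, if_false]
        exact zero_smul ℚ _) 0 i
    simp only [h0D, hiD, if_true, if_false] at h1
    exact one_ne_zero h1
  · have hmaps : (LinearMap.mulLeft ℚ (∑ j ∈ D, chi p j)).comp (r g) =
        (r (α g)).comp (LinearMap.mulLeft ℚ (∑ j ∈ D, chi p j)) := by
      refine linearMap_ext fun i => ?_
      show (∑ j ∈ D, chi p j) * r g (chi p i) = r (α g) ((∑ j ∈ D, chi p j) * chi p i)
      rw [hr, Finset.sum_mul, Finset.sum_mul, map_sum]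
      simp only [← chi_add, hr]
      have hs : π (g * u ^ i.val) 0 = π g i := by
        rw [map_mul, Equiv.Perm.mul_apply, translate_pow hu, zero_add, ZMod.natCast_zmod_val]
      have hh : (u ^ (π g i).val)⁻¹ * (g * u ^ i.val) ∈ H := by
        rw [hH, map_mul, Equiv.Perm.mul_apply, hs, map_inv, Equiv.Perm.inv_eq_iff_eq,
          translate_pow hu, zero_add, ZMod.natCast_zmod_val]
      have key : ∀ j, π (α g) (j + i) =
          π (α ((u ^ (π g i).val)⁻¹ * (g * u ^ i.val))) j + π g i := by
        intro j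
        have e1 : α g * u ^ i.val =
            u ^ (π g i).val * α ((u ^ (π g i).val)⁻¹ * (g * u ^ i.val)) := by
          rw [map_mul α, map_inv, map_pow, hα, mul_inv_cancel_left, map_mul α, map_pow, hα]
        have e2 := congrArg (fun x => π x j) e1
        simp only [map_mul π, Equiv.Perm.mul_apply, translate_pow hu,
          ZMod.natCast_zmod_val] at e2
        exact e2
      simp only [key]
      exact (Finset.sum_equiv (π (α ((u ^ (π g i).val)⁻¹ * (g * u ^ i.val))))
        (fun j => hperm _ hh j) (fun j _ => rfl)).symm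
    exact fun y => LinearMap.congr_fun hmaps y

theorem fixing_aut_commute (hπ : Function.Injective π) (hu : ∀ i, π u i = i + 1)
    (hH : ∀ g, g ∈ H ↔ π g 0 = 0)
    (hint : ∀ α : MulAut G, ∃ i : ZMod p, ∀ h ∈ H, π (α h) 0 ≠ i)
    (α β : MulAut G) (hα : α u = u) (hβ : β u = u) : α * β = β * α := by
  choose r hr using fun g => exists_perm_map (π g)
  obtain ⟨d, hd, hdr⟩ := exists_intertwining_scalar hu hH hint r hr α hα
  obtain ⟨e, he, her⟩ := exists_intertwining_scalar hu hH hint r hr β hβ
  refine MulEquiv.ext fun g => hπ (Equiv.ext fun i => chi_injective ?_)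
  have h1 : ∀ y, d * e * r g y = r (α (β g)) (d * e * y) := fun y => by
    rw [mul_assoc, her, hdr, mul_assoc]
  have h2 : ∀ y, d * e * r g y = r (β (α g)) (d * e * y) := fun y => by
    rw [mul_comm d e, mul_assoc, hdr, her, mul_assoc]
  have h3 := (h1 ((d * e)⁻¹ * chi p i)).symm.trans (h2 ((d * e)⁻¹ * chi p i))
  rw [mul_inv_cancel_left₀ (mul_ne_zero hd he), hr, hr] at h3
  exact h3

end CfsgLib.PrimeIndexOut
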