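import Cfsg.Agent.Lib.Solv.PrimeDegreeFixingAut
import Cfsg.Prelude

/-!
# The outer automorphism group of a simple group with a subgroup of prime index is solvable
-/

set_option autoImplicit false

namespace CfsgLib.PrimeIndexOut

variable {G : Type*} [Group G] [Finite G]

theorem aut_mem_zpowers_pow {u : G} {α : MulAut G} (h : α u ∈ Subgroup.zpowers u) (z : ℤ) :
    α (u ^ z) ∈ Subgroup.zpowers u := by
  rw [map_zpow]
  exact Subgroup.zpow_mem _ h z

/-- The automorphisms mapping a cyclic subgroup into itself. -/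
def autStab (u : G) : Subgroup (MulAut G) where
  carrier := {α | α u ∈ Subgroup.zpowers u}
  one_mem' := Subgroup.mem_zpowers u
  mul_mem' := fun {α β} ha hb => by
    obtain ⟨z, hz⟩ := Subgroup.mem_zpowers_iff.1 hb
    show α (β u) ∈ Subgroup.zpowers u
    rw [← hz]
    exact aut_mem_zpowers_pow ha z
  inv_mem' := fun {α} ha => by
    have hmap : (Subgroup.zpowers u).map α.toMonoidHom = Subgroup.zpowers u := by
      refine Subgroup.eq_of_le_of_card_ge ?_
        (le_of_eq (Subgroup.card_map_of_injective α.injective).symm)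
      rw [MonoidHom.map_zpowers, Subgroup.zpowers_le]
      exact ha
    obtain ⟨x, hx, hxu⟩ : u ∈ (Subgroup.zpowers u).map α.toMonoidHom := by
      rw [hmap]; exact Subgroup.mem_zpowers u
    show α.symm u ∈ Subgroup.zpowers u
    rw [show α.symm u = x from α.injective (by rw [MulEquiv.apply_symm_apply]; exact hxu.symm)]
    exact hx

theorem mem_autStab {u : G} {α : MulAut G} : α ∈ autStab u ↔ α u ∈ Subgroup.zpowers u := Iff.rfl

theorem autStab_isSolvable (u : G)
    (hC : ∀ α β : MulAut G, α u = u → β u = u → α * β = β * α) :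
    Group.IsSolvable ↥(autStab u) := by
  let C : Subgroup ↥(autStab u) :=
    { carrier := {α | (α : MulAut G) u = u}
      one_mem' := rfl
      mul_mem' := fun {α β} ha hb => by
        show (α : MulAut G) ((β : MulAut G) u) = u
        rw [show (β : MulAut G) u = u from hb]
        exact ha
      inv_mem' := fun {α} ha => by
        show (α : MulAut G).symm u = u
        exact (MulEquiv.symm_apply_eq _).2 ha.symm }
  have hcomm : commutator ↥(autStab u) ≤ C := by
    rw [commutator_def, Subgroup.commutator_le]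
    rintro ⟨α, hα⟩ - ⟨β, hβ⟩ -
    obtain ⟨a, ha⟩ := Subgroup.mem_zpowers_iff.1 (mem_autStab.1 hα)
    obtain ⟨b, hb⟩ := Subgroup.mem_zpowers_iff.1 (mem_autStab.1 hβ)
    have h : (α * β) u = (β * α) u := by
      show α (β u) = β (α u)
      rw [← ha, ← hb, map_zpow, map_zpow, ← ha, ← hb, ← zpow_mul, ← zpow_mul, mul_comm]
    show ((α * β * α⁻¹ * β⁻¹ : MulAut G)) u = u
    have h' : α * β * α⁻¹ * β⁻¹ = (α * β) * (β * α)⁻¹ := by group
    rw [h', MulAut.mul_apply]
    have h2 : (β * α)⁻¹ u = (α * β)⁻¹ u := by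
      apply (β * α).injective
      rw [MulAut.apply_inv_self]
      calc u = (α * β) ((α * β)⁻¹ u) := by rw [MulAut.apply_inv_self]
        _ = (β * α) ((α * β)⁻¹ u) := by
          obtain ⟨c, hc⟩ := Subgroup.mem_zpowers_iff.1
            (mem_autStab.1 ((autStab u).inv_mem ((autStab u).mul_mem hα hβ)))
          rw [← hc, map_zpow, map_zpow, h]
    rw [h2, MulAut.apply_inv_self]
  rw [Group.isSolvable_def]
  refine ⟨2, eq_bot_iff.2 ?_⟩
  rw [derivedSeries_succ, derivedSeries_one, Subgroup.commutator_le]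
  intro α hα β hβ
  rw [Subgroup.mem_bot, commutatorElement_eq_one_iff_mul_comm]
  exact Subtype.ext (hC α β (hcomm hα) (hcomm hβ))

theorem out_isSolvable [IsSimpleGroup G] (H : Subgroup G) (hH : H.index.Prime) :
    Group.IsSolvable (Cfsg.Out G) := by
  classical
  haveI hp : Fact H.index.Prime := ⟨hH⟩
  have hcore : H.normalCore = ⊥ := by
    rcases (Subgroup.normalCore_normal H).eq_bot_or_eq_top with h | h
    · exact h
    · exfalso
      have : H = ⊤ := eq_top_iff.2 (h ▸ Subgroup.normalCore_le H)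
      rw [this, Subgroup.index_top] at hH
      exact Nat.not_prime_one hH
  let τ : G →* Equiv.Perm (G ⧸ H) := MulAction.toPermHom G (G ⧸ H)
  have hτ : Function.Injective τ :=
    (MonoidHom.ker_eq_bot_iff τ).1 (by rw [← hcore, Subgroup.normalCore_eq_ker])
  have hcardG : Nat.card G = H.index * Nat.card H := by
    rw [mul_comm, Subgroup.card_mul_index]
  have hndvd : ¬ H.index ∣ Nat.card H := by
    intro hd
    have h1 : Nat.card G ∣ H.index.factorial := by
      have := Subgroup.card_dvd_of_injective τ hτ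
      rwa [Nat.card_perm, ← Subgroup.index_eq_card] at this
    obtain ⟨m, hm⟩ : ∃ m, H.index = m + 1 :=
      Nat.exists_eq_succ_of_ne_zero hH.ne_zero
    rw [hcardG, hm, Nat.factorial_succ] at h1
    have h2 := Nat.dvd_of_mul_dvd_mul_left (Nat.succ_pos m) h1
    have h3 := (hH.dvd_factorial).1 (hd.trans h2)
    omega
  obtain ⟨u, hu⟩ := exists_prime_orderOf_dvd_card' (G := G) H.index
    (hcardG ▸ dvd_mul_right _ _)
  have hdisj : ∀ g ∈ Subgroup.zpowers u, g ∈ H → g = 1 := by
    intro g hg hgH
    rw [← orderOf_eq_one_iff]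
    refine Nat.dvd_one.1 ?_
    have hc : Nat.Coprime H.index (Nat.card H) := (Nat.Prime.coprime_iff_not_dvd hH).2 hndvd
    rw [← hc.gcd_eq_one]
    refine Nat.dvd_gcd ?_ (Subgroup.orderOf_dvd_natCard H hgH)
    have h := Subgroup.orderOf_dvd_natCard _ hg
    rwa [Nat.card_zpowers, hu] at h
  let ef : ZMod H.index → G ⧸ H := fun i => ((u ^ i.val : G) : G ⧸ H)
  have hef : Function.Bijective ef := by
    haveI : Fintype (G ⧸ H) := Fintype.ofFinite _
    have hinj : Function.Injective ef := by
      intro i j hij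
      have h1 := hdisj _ ((Subgroup.zpowers u).mul_mem ((Subgroup.zpowers u).inv_mem
        (Subgroup.npow_mem_zpowers u i.val)) (Subgroup.npow_mem_zpowers u j.val))
        (QuotientGroup.eq.1 hij)
      have h2 := inv_mul_eq_one.1 h1
      exact ZMod.val_injective _ (pow_injOn_Iio_orderOf (by simp [hu, i.val_lt])
        (by simp [hu, j.val_lt]) h2)
    exact (Fintype.bijective_iff_injective_and_card ef).2 ⟨hinj, by
      rw [ZMod.card, ← Nat.card_eq_fintype_card, ← Subgroup.index_eq_card]⟩
  let e : ZMod H.index ≃ G ⧸ H := Equiv.ofBijective ef hef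
  let π : G →* Equiv.Perm (ZMod H.index) := (e.symm.permCongrHom).toMonoidHom.comp τ
  have hπapp : ∀ g i, π g i = e.symm (g • e i) := fun g i => rfl
  have hπ : Function.Injective π := e.symm.permCongrHom.injective.comp hτ
  have hπu : ∀ i, π u i = i + 1 := by
    intro i
    rw [hπapp, Equiv.symm_apply_eq]
    show ((u * u ^ i.val : G) : G ⧸ H) = ((u ^ (i + 1).val : G) : G ⧸ H)
    rw [← pow_succ', ZMod.val_add, ZMod.val_one]
    have h : u ^ ((i.val + 1) % H.index) = u ^ (i.val + 1) := by
      rw [← pow_mod_orderOf u (i.val + 1), hu]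
    rw [h]
  have hπH : ∀ g, g ∈ H ↔ π g 0 = 0 := by
    intro g
    rw [hπapp, Equiv.symm_apply_eq]
    show g ∈ H ↔ ((g * u ^ (0 : ZMod H.index).val : G) : G ⧸ H) =
      ((u ^ (0 : ZMod H.index).val : G) : G ⧸ H)
    rw [ZMod.val_zero, pow_zero, mul_one, QuotientGroup.eq, mul_one, Subgroup.inv_mem_iff]
  have hint : ∀ α : MulAut G, ∃ i : ZMod H.index, ∀ h ∈ H, π (α h) 0 ≠ i := by
    intro α
    by_contra hcon
    push_neg at hcon
    let ψ : ↥H →* Equiv.Perm (ZMod H.index) := π.comp (α.toMonoidHom.comp H.subtype)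
    have horb : MulAction.orbit ↥ψ.range (0 : ZMod H.index) = Set.univ :=
      Set.eq_univ_iff_forall.2 fun i => by
        obtain ⟨h, hh, hi⟩ := hcon i
        exact ⟨⟨ψ ⟨h, hh⟩, ⟨h, hh⟩, rfl⟩, hi⟩
    have h1 := MulAction.index_stabilizer ↥ψ.range (0 : ZMod H.index)
    rw [horb, Set.ncard_univ, Nat.card_zmod] at h1
    exact hndvd (h1 ▸ (Subgroup.index_dvd_card _).trans (Subgroup.card_range_dvd ψ))
  have hsolv := autStab_isSolvable u (fixing_aut_commute hπ hπu hπH hint)
  -- Frattini: every automorphism is inner times one normalising `zpowers u`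
  have hcardP : ∀ v : G, orderOf v = H.index →
      Nat.card ↥(Subgroup.zpowers v) = H.index ^ (Nat.card G).factorization H.index := by
    intro v hv
    rw [Nat.card_zpowers, hv, hcardG, Nat.factorization_mul hH.ne_zero Nat.card_pos.ne',
      Finsupp.add_apply, hH.factorization_self, Nat.factorization_eq_zero_of_not_dvd hndvd,
      add_zero, pow_one]
  refine Group.isSolvable_of_surjective
    (f := (QuotientGroup.mk' (Cfsg.Inn G)).comp (autStab u).subtype) fun x => ?_
  obtain ⟨α, rfl⟩ := QuotientGroup.mk'_surjective _ x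
  have hv : orderOf (α u) = H.index :=
    (orderOf_injective α.toMonoidHom α.injective u).trans hu
  obtain ⟨g, hg⟩ := MulAction.exists_smul_eq G
    (Sylow.ofCard (Subgroup.zpowers u) (hcardP u hu) : Sylow H.index G)
    (Sylow.ofCard (Subgroup.zpowers (α u)) (hcardP _ hv) : Sylow H.index G)
  have hmem : g⁻¹ * α u * g ∈ Subgroup.zpowers u := by
    have h1 : α u ∈ ((g • Sylow.ofCard (Subgroup.zpowers u) (hcardP u hu) :
        Sylow H.index G) : Subgroup G) := by
      rw [hg]; exact Subgroup.mem_zpowers _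
    rw [Sylow.coe_subgroup_smul, Subgroup.mem_pointwise_smul_iff_inv_smul_mem] at h1
    simpa [MulAut.smul_def] using h1
  refine ⟨⟨(MulAut.conj g)⁻¹ * α, ?_⟩, ?_⟩
  · show (MulAut.conj g)⁻¹ (α u) ∈ Subgroup.zpowers u
    rw [MulAut.conj_inv_apply]
    exact hmem
  · show QuotientGroup.mk' (Cfsg.Inn G) ((MulAut.conj g)⁻¹ * α) = _
    have h0 : QuotientGroup.mk' (Cfsg.Inn G) (MulAut.conj g)⁻¹ = 1 :=
      (QuotientGroup.eq_one_iff _).2 (Subgroup.inv_mem _ ⟨g, rfl⟩)
    rw [map_mul, h0, one_mul]

end CfsgLib.PrimeIndexOut
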